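import Mathlib
import Cfsg.Agent.Chev.BalAut
import Cfsg.Agent.TE.TabA

/-! Fast tables for the root system of type E₆. -/

set_option autoImplicit false

namespace Cfsg.Agent.TE

open Cfsg.Lie

/-- The reflection formula. -/
abbrev SOk (r : ℕ) : Prop := ∀ s < 72, sT r s < 72 ∧
    ∀ i < 6, chevE6.co (sT r s) i = chevE6.co s i - aT r s * chevE6.co r i

theorem sT_ok1 : ∀ r < 24, SOk r := by decide +kernel
theorem sT_ok2 : ∀ r < 24, SOk (r + 24) := by decide +kernel
theorem sT_ok3 : ∀ r < 24, SOk (r + 48) := by decide +kernel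

theorem sT_ok : ∀ r < 72, SOk r := fun r hr => by
  by_cases h1 : r < 24
  · exact sT_ok1 r h1
  by_cases h2 : r < 48
  · have := sT_ok2 (r - 24) (by omega); rwa [Nat.sub_add_cancel (by omega)] at this
  · have := sT_ok3 (r - 48) (by omega); rwa [Nat.sub_add_cancel (by omega)] at this

end Cfsg.Agent.TE
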