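import Mathlib
import Cfsg.Agent.TE.Gam
import Cfsg.Agent.TE.CenI

set_option autoImplicit false
set_option linter.unusedSectionVars false

namespace Cfsg.Agent.TE

open Cfsg Cfsg.Agent.GT Cfsg.Agent.Loc.Mss Cfsg.Agent.StdB Cfsg.Agent.Chev Cfsg.Agent.FE Subgroup
open Cfsg.Lie Cfsg.Agent.Cl.Aut
open scoped commutatorElement

variable {K A : Type} [Field K] [Finite K] [CharP K 2] [Group A] [Finite A] (m : TM K A)

namespace MinA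

theorem A71 (r : Rt) : RE.A (e6r 71) r = aT 71 r := A_eq _ r

/-- A grading in which the roots of `Q` come last. -/
noncomputable def fq : (chevE6.Nd → ℤ) →+ ℤ := RE.ht + 6 • RE.cw (e6r 71)

theorem fq_val (r : Rt) : fq (RE.wt r) = hT r + 6 * aT 71 r := by
  rw [← hgt_val, ← A71]
  rfl

theorem fq_pos {r : Rt} (h : RE.Pos r) : 1 ≤ fq (RE.wt r) := by
  rw [fq_val]
  exact (by decide +kernel : ∀ r < 72, 36 ≤ r → 1 ≤ hT r + 6 * aT 71 r) r r.2 ((pos_iff r).1 h)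

theorem fq_gd : GdS fq := ⟨fun _ h => le_trans (by norm_num) (fq_pos h), fun r => by
  rw [fq_val, fq_val, π_val]
  exact (by decide +kernel : ∀ r < 72, hT (e6p r) + 6 * aT 71 (e6p r) = hT r + 6 * aT 71 r) r r.2⟩

/-- Three roots of `Q` of different heights. -/
def wit (r : ℕ) : ℕ × ℕ × ℕ := [(48, 51, 53), (47, 50, 61), (47, 50, 61), (46, 51, 52), (46, 50, 61), (46, 50, 51),
  (47, 48, 49), (46, 48, 49), (46, 47, 49), (46, 47, 48), (0, 0, 0), (0, 0, 0), (0, 0, 0), (0, 0, 0), (0, 0, 0),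
  (0, 0, 0), (0, 0, 0), (0, 0, 0), (0, 0, 0), (0, 0, 0), (50, 51, 52), (47, 48, 49), (46, 48, 49), (46, 47, 50),
  (46, 47, 48)].getD (r - 36) (0, 0, 0)

/-- The condition on one root. -/
def Ok (r g : ℕ) : Prop := g < 72 ∧ aT 71 g = 1 ∧ 1 ≤ hT g ∧ aT r g = -1 ∧ aT g (sT r g) = 1 ∧ sT g (sT r g) = r

instance (r g : ℕ) : Decidable (Ok r g) := inferInstanceAs (Decidable (_ ∧ _))

theorem wit_ok : ∀ r < 72, 1 ≤ hT r + 6 * aT 71 r → hT r + 6 * aT 71 r < 6 →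
    Ok r (wit r).1 ∧ Ok r (wit r).2.1 ∧ Ok r (wit r).2.2 ∧ hT (wit r).1 < hT (wit r).2.1 ∧
      hT (wit r).2.1 < hT (wit r).2.2 := by decide +kernel

/-- `g` has exact degree `k`. -/
def Ex (k : ℤ) (g : A) : Prop := g ∈ m.XG fq k ∧ g ∉ m.XG fq (k + 1)

theorem xs_Q {g : Rt} (h : aT 71 g = 1) (b : K) : m.xs g b ∈ m.Q :=
  m.FS_le_XT (fun r hr => idl_Q.sym r hr) (m.xs_mem_FS (by
    rw [Set.mem_ofPred_eq, A71]; exact h.ge) b)

theorem U_XG {u : A} (h : u ∈ m.U) : u ∈ m.XG fq 1 := XS_mono _ (fun _ hr => fq_pos hr) h.1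

theorem ex_mul {y v w : A} {j k : ℤ} (hj : 1 ≤ j) (hjk : j < k) (hv : v ∈ m.Q) (_hw : w ∈ m.Q)
    (h1 : Ex m j ⁅y, v⁆) (h2 : Ex m k ⁅y, w⁆) : Ex m j ⁅y, v * w⁆ := by
  have h3 : v * ⁅y, w⁆ * v⁻¹ ∈ m.XG fq (j + 1) :=
    (mem_normalizer_iff.1 (m.XG_norm fq_gd.1 (by omega) (m.Q_le_U hv).1) _).1 (m.XG_mono (by omega) h2.1)
  rw [show ⁅y, v * w⁆ = ⁅y, v⁆ * (v * ⁅y, w⁆ * v⁻¹) by simp only [commutatorElement_def]; group]
  exact ⟨mul_mem h1.1 (m.XG_mono (by omega) h3), fun h => h1.2 ((mul_mem_cancel_right h3).1 h)⟩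

theorem cen_mul (h2 : m.q = 2) {e v w : A} (he : e ∈ m.Q) (hv : v ∈ m.Q) (hw : w ∈ m.Q) (h1 : v ∉ C1 e)
    (h3 : w ∉ C1 e) : v * w ∈ C1 e := by
  have key : ∀ v ∈ m.Q, ⁅v, e⁆ ∈ m.Z := fun v hv => by
    refine ⟨XS_mono _ (fun r hr => ?_) (m.comm_mem (f := RE.cw (e6r 71)) le_rfl le_rfl hv.1 he.1), ?_⟩
    · refine Fin.ext ((by decide +kernel : ∀ r < 72, 1 + 1 ≤ aT 71 r → r = 71) r r.2 ?_)
      rw [← A71]
      exact hr
    · rw [commutatorElement_def]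
      have a : v ∈ C1 m.s := hv.2
      have b : e ∈ C1 m.s := he.2
      exact (C1 m.s).mul_mem ((C1 m.s).mul_mem ((C1 m.s).mul_mem a b) ((C1 m.s).inv_mem a)) ((C1 m.s).inv_mem b)
  have h4 : Nat.card m.Z = 2 := m.card_Z.trans h2
  have h5 : ∀ v (hv : v ∈ m.Q), v ∉ C1 e → (⟨_, key v hv⟩ : m.Z) ≠ 1 := fun v hv h k =>
    h (mem_C1.2 (commutatorElement_eq_one_iff_mul_comm.1 (congrArg Subtype.val k)))
  obtain ⟨z, -, hz⟩ := (Nat.card_eq_two_iff' (1 : m.Z)).1 h4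
  have h6 : ⁅w, e⁆ = ⁅v, e⁆⁻¹ := congrArg Subtype.val ((hz _ (h5 w hw h3)).trans (hz _ (inv_ne_one.2 (h5 v hv h1))).symm)
  refine mem_C1.2 (commutatorElement_eq_one_iff_mul_comm.1 ?_)
  rw [show ⁅v * w, e⁆ = v * ⁅w, e⁆ * v⁻¹ * ⁅v, e⁆ by simp only [commutatorElement_def]; group,
    mem_cent.1 (m.Z_cent (key w hw)) v (m.Q_le_U hv), mul_inv_cancel_right, h6, inv_mul_cancel]

theorem fin (h2 : m.q = 2) {y e : A} (he : e ∈ m.Q) (hc : ∀ v ∈ m.Q ⊓ C1 e, ⁅y, v⁆ = 1 ∨ ⁅y, v⁆ = e)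
    {a b c : A} {i j k : ℤ} (hi : 1 ≤ i) (hij : i < j) (hjk : j < k) (ha : a ∈ m.Q) (hb : b ∈ m.Q) (hc' : c ∈ m.Q)
    (e1 : Ex m i ⁅y, a⁆) (e2 : Ex m j ⁅y, b⁆) (e3 : Ex m k ⁅y, c⁆) : False := by
  have k1 : ∀ {v : A} {i : ℤ}, v ∈ m.Q → v ∈ C1 e → Ex m i ⁅y, v⁆ → Ex m i e := fun {v i} h1 h3 h4 => by
    rcases hc v ⟨h1, h3⟩ with h5 | h5 <;> rw [h5] at h4
    exacts [absurd (one_mem _) h4.2, h4]
  have k2 : ∀ {i j : ℤ}, i < j → Ex m i e → Ex m j e → False := fun h h1 h3 => h1.2 (m.XG_mono (by omega) h3.1)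
  have ab := ex_mul m hi hij ha hb e1 e2
  have ac := ex_mul m hi (hij.trans hjk) ha hc' e1 e3
  have bc := ex_mul m (by omega) hjk hb hc' e2 e3
  by_cases h1 : a ∈ C1 e <;> by_cases h3 : b ∈ C1 e <;> by_cases h4 : c ∈ C1 e
  · exact k2 hij (k1 ha h1 e1) (k1 hb h3 e2)
  · exact k2 hij (k1 ha h1 e1) (k1 hb h3 e2)
  · exact k2 (hij.trans hjk) (k1 ha h1 e1) (k1 hc' h4 e3)
  · exact k2 hij (k1 ha h1 e1) (k1 (mul_mem hb hc') (cen_mul m h2 he hb hc' h3 h4) bc)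
  · exact k2 hjk (k1 hb h3 e2) (k1 hc' h4 e3)
  · exact k2 hij (k1 (mul_mem ha hc') (cen_mul m h2 he ha hc' h1 h4) ac) (k1 hb h3 e2)
  · exact k2 (hij.trans hjk) (k1 (mul_mem ha hb) (cen_mul m h2 he ha hb h1 h3) ab) (k1 hc' h4 e3)
  · exact k2 hij (k1 (mul_mem ha hb) (cen_mul m h2 he ha hb h1 h3) ab)
      (k1 (mul_mem hb hc') (cen_mul m h2 he hb hc' h3 h4) bc)

theorem inner {y : A} {j : ℤ} (hj : 1 ≤ j) (hy : y ∈ m.XG fq j) {β : Rt} (hβ : m.ld fq j y β ≠ 0) {g : ℕ}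
    (h : Ok β g) : ∃ v ∈ m.Q, Ex m (j + (hT g + 6)) ⁅y, v⁆ := by
  obtain ⟨h0, h1, h2, h3, h4, h5⟩ := h
  have h6 : fq (RE.wt ⟨g, h0⟩) = hT g + 6 := by rw [fq_val]; simp only [h1, mul_one]
  have h7 : RE.A ⟨g, h0⟩ (RE.refl β ⟨g, h0⟩) = 1 := by rw [A_eq, refl_val]; exact h4
  have h8 : RE.refl ⟨g, h0⟩ (RE.refl β ⟨g, h0⟩) = β := Fin.ext (by rw [refl_val, refl_val]; exact h5)
  by_contra hc
  push Not at hc
  refine hβ (m.lin_indep (d := if RE.A (π ⟨g, h0⟩) (RE.refl β ⟨g, h0⟩) = 1 then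
    m.ld fq j y (RE.refl (π ⟨g, h0⟩) (RE.refl β ⟨g, h0⟩)) else 0) fun b => ?_).1
  have h9 := m.comm_mem hj (by omega) hy (m.ld_xs fq_gd (by omega) h6 b).1
  have h10 := (m.ld_eq_zero (by omega) h9).2 (by_contra fun k => hc _ (xs_Q m (g := ⟨g, h0⟩) h1 b) ⟨h9, k⟩)
  have h11 := m.ld_comm_xs fq_gd hj (by omega) hy h6 b (RE.refl β ⟨g, h0⟩)
  rw [h10, if_pos h7, h8] at h11
  rw [ite_mul, zero_mul]
  exact h11.symm

theorem outer {u φ : A} (hu : u ∈ m.U) {c : Rt → K} {τ : RingAut K} (hτ : τ ≠ 1) (h : RE.SM m.x φ 1 c τ)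
    {g : Rt} (h1 : aT 71 g = 1) (h2 : 1 ≤ hT g) (h3 : e6p g ≠ g) : ∃ v ∈ m.Q, Ex m (hT g + 6) ⁅u * φ, v⁆ := by
  have h6 : fq (RE.wt g) = hT g + 6 := by rw [fq_val]; simp only [h1, mul_one]
  have h7 : g ≠ π g := fun e => h3 (by rw [← π_val, ← e])
  by_contra hc
  push Not at hc
  have key : ∀ b, c g * τ b + b = 0 := fun b => by
    obtain ⟨a1, a2⟩ := m.ld_xs fq_gd (by omega) h6 b
    obtain ⟨a3, a4⟩ := m.ld_sm (by omega) a1 h fun _ => rfl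
    have a5 : u * (φ * m.xs g b * φ⁻¹) * u⁻¹ ∈ m.XG fq (hT g + 6) :=
      (mem_normalizer_iff.1 (m.XG_norm fq_gd.1 (by omega) hu.1) _).1 a3
    have a6 : ⁅u * φ, m.xs g b⁆ = u * (φ * m.xs g b * φ⁻¹) * u⁻¹ * (m.xs g b)⁻¹ := by
      simp only [commutatorElement_def]; group
    have a7 : ⁅u * φ, m.xs g b⁆ ∈ m.XG fq (hT g + 6) := a6 ▸ mul_mem a5 (inv_mem a1)
    have a8 := congrFun ((m.ld_eq_zero (by omega) a7).2 (by_contra fun k => hc _ (xs_Q m h1 b) ⟨a7, k⟩)) g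
    have a9 := a4 g
    rw [Equiv.Perm.one_apply] at a9
    rw [a6, m.ld_mul (by omega) a5 (inv_mem a1), m.ld_inv (by omega) a1, m.ld_conj (by omega) a3 (U_XG m hu),
      Pi.add_apply, a9, a2, Pi.add_apply, Pi.single_eq_same, Pi.single_eq_of_ne h7, add_zero] at a8
    exact a8
  have k1 : c g = 1 := by
    have := key 1
    rwa [map_one, mul_one, CharTwo.add_eq_zero] at this
  refine hτ (RingEquiv.ext fun b => ?_)
  have := key b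
  rwa [k1, one_mul, CharTwo.add_eq_zero] at this

end MinA

open MinA in
theorem TM.min (h2 : m.q = 2) {y e : A} (hy : y ∈ m.Γ ⊓ 𝐍[m.U]) (y2 : T2 y) (he : e ∈ m.Q)
    (hc : ∀ v ∈ m.Q ⊓ C1 e, ⁅y, v⁆ = 1 ∨ ⁅y, v⁆ = e) : y ∈ m.Q := by
  by_contra hQ
  rcases m.two_B hy y2 with hU | ⟨u, hu, φ, -, c, τ, hτ, h, rfl⟩
  · have h6 : y ∉ m.XG fq 6 := fun k => hQ ⟨XS_mono _ (fun r hr => by
      rw [Set.mem_ofPred_eq, fq_val] at hr
      rw [Set.mem_ofPred_eq, A71]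
      exact (by decide +kernel : ∀ r < 72, 6 ≤ hT r + 6 * aT 71 r → 1 ≤ aT 71 r) r r.2 hr) k, hU.2⟩
    obtain ⟨j, h1, h5, e1, e2⟩ : ∃ j : ℤ, 1 ≤ j ∧ j < 6 ∧ Ex m j y := by
      by_contra k
      push Not at k
      have k1 : ∀ j : ℤ, 1 ≤ j → j < 6 → y ∈ m.XG fq j → y ∈ m.XG fq (j + 1) := fun j a b c =>
        by_contra fun d => k j a b ⟨c, d⟩
      exact h6 (k1 5 (by norm_num) (by norm_num) (k1 4 (by norm_num) (by norm_num) (k1 3 (by norm_num) (by norm_num)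
        (k1 2 (by norm_num) (by norm_num) (k1 1 le_rfl (by norm_num) (U_XG m hU))))))
    obtain ⟨β, hβ⟩ := Function.ne_iff.1 (mt (m.ld_eq_zero h1 e1).1 e2)
    have h7 : fq (RE.wt β) = j := by_contra fun k => hβ (m.ld_ne k)
    rw [fq_val] at h7
    obtain ⟨o1, o2, o3, l1, l2⟩ := wit_ok β β.2 (by omega) (by omega)
    obtain ⟨a, ha, a1⟩ := inner m h1 e1 hβ o1
    obtain ⟨b, hb, b1⟩ := inner m h1 e1 hβ o2
    obtain ⟨c, hc', c1⟩ := inner m h1 e1 hβ o3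
    have := o1.2.2.1
    exact fin m h2 he hc (by omega) (by omega) (by omega) ha hb hc' a1 b1 c1
  · obtain ⟨a, ha, a1⟩ := outer m hu hτ h (g := e6r 48) (by decide +kernel) (by decide +kernel) (by decide +kernel)
    obtain ⟨b, hb, b1⟩ := outer m hu hτ h (g := e6r 49) (by decide +kernel) (by decide +kernel) (by decide +kernel)
    obtain ⟨c, hc', c1⟩ := outer m hu hτ h (g := e6r 52) (by decide +kernel) (by decide +kernel) (by decide +kernel)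
    exact fin m h2 he hc (by decide +kernel) (by decide +kernel) (by decide +kernel) ha hb hc' a1 b1 c1

end Cfsg.Agent.TE
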